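/-
Rational matrices: idempotent traces and exclusion of parameters of graphs on 100 vertices.
-/
import Mathlib

set_option autoImplicit false
set_option linter.style.haveILetI false

namespace CfsgHSRecog

open Matrix

theorem trace_idempotent {ι : Type*} [Fintype ι] [DecidableEq ι] {P : Matrix ι ι ℚ} (h : P * P = P) :
    ∃ n : ℕ, P.trace = n := by
  refine ⟨Module.finrank ℚ (LinearMap.range (Matrix.toLin' P)), ?_⟩
  have hp : LinearMap.IsProj (LinearMap.range (Matrix.toLin' P)) (Matrix.toLin' P) := by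
    refine ⟨fun x => LinearMap.mem_range_self _ x, ?_⟩
    rintro _ ⟨y, rfl⟩
    rw [← LinearMap.comp_apply, ← Matrix.toLin'_mul, h]
  rw [← Matrix.trace_toLin'_eq, hp.trace]

variable {V : Type*} [Fintype V] [DecidableEq V]

/-- The all-ones matrix. -/
def jMat : Matrix V V ℚ := fun _ _ => 1

theorem jMat_mul (hV : Fintype.card V = 100) : (jMat : Matrix V V ℚ) * jMat = (100 : ℚ) • jMat := by
  ext i j; simp [jMat, Matrix.mul_apply, hV]

variable {A : Matrix V V ℚ}

theorem mul_jMat (hr : ∀ i, ∑ j, A i j = 22) : A * jMat = (22 : ℚ) • jMat := by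
  ext i j; simp [jMat, Matrix.mul_apply, hr]

theorem jMat_mul' (hc : ∀ j, ∑ i, A i j = 22) : jMat * A = (22 : ℚ) • jMat := by
  ext i j; simp [jMat, Matrix.mul_apply, hc]

theorem trace_jMat (hV : Fintype.card V = 100) : (jMat : Matrix V V ℚ).trace = 100 := by
  simp [jMat, Matrix.trace, hV]

theorem excl_twenty_one (hV : Fintype.card V = 100) (hd : ∀ i, A i i = 0)
    (h : A * A = (22 : ℚ) • (1 : Matrix V V ℚ) + (21 : ℚ) • A) : False := by
  have hP : ((1 / 23 : ℚ) • (A + 1)) * ((1 / 23 : ℚ) • (A + 1)) = (1 / 23 : ℚ) • (A + 1) := by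
    simp only [Matrix.smul_mul, Matrix.mul_smul, Matrix.add_mul, Matrix.mul_add, Matrix.one_mul,
      Matrix.mul_one, h]
    module
  obtain ⟨n, hn⟩ := trace_idempotent hP
  rw [Matrix.trace_smul, Matrix.trace_add, Matrix.trace_one, hV,
    show A.trace = 0 from Finset.sum_eq_zero fun i _ => hd i, smul_eq_mul] at hn
  have : (23 * n : ℕ) = 100 := by exact_mod_cast (by norm_num at hn ⊢; linarith : ((23 * n : ℕ) : ℚ) = 100)
  omega

theorem excl_seven (hV : Fintype.card V = 100) (hd : ∀ i, A i i = 0) (hr : ∀ i, ∑ j, A i j = 22)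
    (hc : ∀ j, ∑ i, A i j = 22) (h : A * A = (18 : ℚ) • (1 : Matrix V V ℚ) + (3 : ℚ) • A + (4 : ℚ) • jMat) :
    False := by
  set P : Matrix V V ℚ := (1 / 9 : ℚ) • (A + (3 : ℚ) • 1 - (1 / 4 : ℚ) • jMat) with hPd
  have hP : P * P = P := by
    simp only [hPd, Matrix.smul_mul, Matrix.mul_smul, Matrix.sub_mul, Matrix.mul_sub, Matrix.add_mul,
      Matrix.mul_add, Matrix.one_mul, Matrix.mul_one, h, mul_jMat hr, jMat_mul' hc, jMat_mul hV]
    module
  obtain ⟨n, hn⟩ := trace_idempotent hP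
  rw [hPd, Matrix.trace_smul, Matrix.trace_sub, Matrix.trace_add, Matrix.trace_smul, Matrix.trace_smul,
    Matrix.trace_one, hV, trace_jMat hV, show A.trace = 0 from Finset.sum_eq_zero fun i _ => hd i] at hn
  simp only [smul_eq_mul] at hn
  have : (9 * n : ℕ) = 275 := by exact_mod_cast (by norm_num at hn ⊢; linarith : ((9 * n : ℕ) : ℚ) = 275)
  omega

theorem det_add_const (hV : Fintype.card V = 100) :
    ((56 : ℚ) • (1 : Matrix V V ℚ) + (2 : ℚ) • jMat).det = 56 ^ 99 * 256 := by
  have e : (56 : ℚ) • (1 : Matrix V V ℚ) + (2 : ℚ) • jMat =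
      (56 : ℚ) • ((1 : Matrix V V ℚ) +
        replicateCol Unit (fun _ : V => (1 / 28 : ℚ)) * replicateRow Unit (fun _ : V => (1 : ℚ))) := by
    ext i j
    simp [jMat, Matrix.mul_apply]
    ring
  rw [e, det_smul, det_one_add_replicateCol_mul_replicateRow, hV]
  simp [dotProduct, hV]
  norm_num

theorem excl_fourteen (hV : Fintype.card V = 100) (Z : Matrix V V ℤ)
    (h : (Z.map (Int.cast : ℤ → ℚ)) * (Z.map (Int.cast : ℤ → ℚ)) =
      (56 : ℚ) • (1 : Matrix V V ℚ) + (2 : ℚ) • jMat) : False := by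
  have h1 := congrArg Matrix.det h
  rw [det_mul, det_add_const hV] at h1
  have hd : (Z.map (Int.cast : ℤ → ℚ)).det = (Z.det : ℚ) := ((Int.castRingHom ℚ).map_det Z).symm
  rw [hd] at h1
  have h2 : Z.det * Z.det = 56 ^ 99 * 256 := by exact_mod_cast h1
  have h3 : Z.det.natAbs * Z.det.natAbs = 56 ^ 99 * 256 := by
    have h4 := congrArg Int.natAbs h2
    rw [Int.natAbs_mul, Int.natAbs_mul, Int.natAbs_pow] at h4
    exact h4
  haveI : Fact (Nat.Prime 7) := ⟨by norm_num⟩
  have hne : Z.det.natAbs ≠ 0 := fun e => by rw [e, mul_zero] at h3; norm_num at h3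
  have h5 := congrArg (padicValNat 7) h3
  rw [padicValNat.mul hne hne, padicValNat.mul (by positivity) (by norm_num), padicValNat.pow 56 99,
    show padicValNat 7 256 = 0 from padicValNat.eq_zero_of_not_dvd (by norm_num),
    show padicValNat 7 56 = 1 from by
      rw [show (56 : ℕ) = 7 * 8 by norm_num, padicValNat.mul (by norm_num) (by norm_num), padicValNat.self (by norm_num),
        padicValNat.eq_zero_of_not_dvd (by norm_num : ¬ 7 ∣ 8)]] at h5
  omega

end CfsgHSRecog
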