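/-
A group on 100 points with stabiliser M22 and suborbits 1, 22, 77.
-/
import Cfsg.Agent.Lib.HSRecog.Trace
import Cfsg.Agent.Lib.SRGUnique.Hundred
import Cfsg.Agent.Lib.Leech.HSGraph
import Cfsg.Agent.Lib.Golay.Mathieu
import Cfsg.Prelude.Def_Spor_Conway

set_option autoImplicit false
set_option linter.style.haveILetI false
set_option linter.unusedSectionVars false

namespace CfsgHSRecog

open Cfsg CfsgLeech
open scoped Pointwise

attribute [local irreducible] CfsgGolay.codeL CfsgGolay.octadL CfsgGolay.dodecadL CfsgGolay.slpCodes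

theorem iso_hsStab : Nonempty (↥Spor.HS ≃* ↥hsStab) := by
  have hneg : ∀ g : ↥Co0, g • (-Spor.leechU') = -Spor.leechU' ↔ g • Spor.leechU' = Spor.leechU' := fun g => by
    rw [aut_neg, neg_inj]
  have f1 : sqNorm (Spor.leechV : GolayPt → ℤ) = 48 := by
    show sqNorm Spor.vecV = 48; decide +kernel
  have f2 : sqNorm ((-Spor.leechU' : ↥leechLattice) : GolayPt → ℤ) = 32 := by
    show sqNorm (-Spor.vecU') = 32; decide +kernel
  have f3 : dotInt (Spor.leechV : GolayPt → ℤ) ((-Spor.leechU' : ↥leechLattice) : GolayPt → ℤ) = 16 := by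
    show dotInt Spor.vecV (-Spor.vecU') = 16; decide +kernel
  obtain ⟨g, g1, g2⟩ := config_pairs (Or.inr rfl) (u := ⟨uStd, uStd_mem⟩) (x := ⟨tStd, tStd_mem⟩)
    std_facts.2.2.2.1 std_facts.2.2.2.2.2.1 std_facts.2.2.2.2.2.2.2 f1 f2 f3
  obtain ⟨e⟩ := inf_iso g1 g2
  refine ⟨MulEquiv.trans ?_ e.symm⟩
  exact
    { toFun := fun x => ⟨⟨x.1, (Subgroup.mem_inf.mp (Subgroup.mem_inf.mp x.2).1).1⟩,
        Subgroup.mem_inf.mpr ⟨(Subgroup.mem_inf.mp (Subgroup.mem_inf.mp x.2).1).2,
          (hneg _).mpr (Subgroup.mem_inf.mp x.2).2⟩⟩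
      invFun := fun x => ⟨x.1.1, Subgroup.mem_inf.mpr ⟨Subgroup.mem_inf.mpr ⟨x.1.2, (Subgroup.mem_inf.mp x.2).1⟩,
        (hneg _).mp (Subgroup.mem_inf.mp x.2).2⟩⟩
      left_inv := fun _ => rfl
      right_inv := fun _ => rfl
      map_mul' := fun _ _ => rfl }

variable {Ω : Type*} [Fintype Ω] [DecidableEq Ω]

section Graph

variable {G : Subgroup (Equiv.Perm Ω)} (a b c : Ω)

theorem card_stab_eq (y : Ω) :
    Nat.card ↥(MulAction.stabilizer G (a, y)) =
      Nat.card ↥(MulAction.stabilizer (MulAction.stabilizer G a) y) :=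
  Nat.card_congr
    { toFun := fun g => ⟨⟨g.1, congrArg Prod.fst g.2⟩, congrArg Prod.snd g.2⟩
      invFun := fun g => ⟨g.1.1, Prod.ext g.1.2 g.2⟩
      left_inv := fun _ => rfl
      right_inv := fun _ => rfl }

theorem pair_orbit_card [MulAction.IsPretransitive G Ω] (y : Ω) :
    Nat.card (MulAction.orbit G (a, y)) =
      Fintype.card Ω * Nat.card (MulAction.orbit (MulAction.stabilizer G a) y) := by
  have o1 := (MulAction.stabilizer G (a, y)).card_mul_index
  have o2 := (MulAction.stabilizer (MulAction.stabilizer G a) y).card_mul_index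
  have o3 := (MulAction.stabilizer G a).card_mul_index
  rw [MulAction.index_stabilizer] at o1 o2
  rw [MulAction.index_stabilizer_of_transitive, Nat.card_eq_fintype_card (α := Ω)] at o3
  rw [← o3, ← o2, card_stab_eq, mul_assoc] at o1
  rw [Nat.card_coe_set_eq, Nat.card_coe_set_eq, Nat.eq_of_mul_eq_mul_left Nat.card_pos o1]
  ring

theorem swap_orbit_card (x y : Ω) :
    Nat.card (MulAction.orbit G (x, y)) = Nat.card (MulAction.orbit G (y, x)) := by
  refine Nat.card_congr (Equiv.subtypeEquiv (Equiv.prodComm Ω Ω) fun p => ?_)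
  constructor
  · rintro ⟨g, rfl⟩; exact ⟨g, rfl⟩
  · rintro ⟨g, h⟩; exact ⟨g, (Equiv.prodComm Ω Ω).injective h⟩

end Graph

theorem recognise (hΩ : Fintype.card Ω = 100) (G : Subgroup (Equiv.Perm Ω)) [MulAction.IsPretransitive G Ω]
    (a : Ω) (e : MulAction.stabilizer G a ≃* Spor.M22) (b c : Ω)
    (hb : (MulAction.orbit (MulAction.stabilizer G a) b).ncard = 22)
    (hc : (MulAction.orbit (MulAction.stabilizer G a) c).ncard = 77) : Spor.IsoHS G := by
  classical
  set S := MulAction.stabilizer G a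
  have horbit : ∀ y, y = a ∨ y ∈ MulAction.orbit S b ∨ y ∈ MulAction.orbit S c := by
    have ha : MulAction.orbit S a = {a} := by
      ext y
      refine ⟨fun ⟨g, hg⟩ => hg ▸ g.2, fun h => by rw [Set.mem_singleton_iff.mp h]; exact MulAction.mem_orbit_self _⟩
    have d1 : Disjoint ({a} : Set Ω) (MulAction.orbit S b) := Set.disjoint_singleton_left.mpr fun h => by
      rw [← MulAction.orbit_eq_iff, ha] at h
      rw [← h, Set.ncard_singleton] at hb; omega
    have d2 : Disjoint ({a} : Set Ω) (MulAction.orbit S c) := Set.disjoint_singleton_left.mpr fun h => by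
      rw [← MulAction.orbit_eq_iff, ha] at h
      rw [← h, Set.ncard_singleton] at hc; omega
    have d3 : Disjoint (MulAction.orbit S b) (MulAction.orbit S c) := Set.disjoint_left.mpr fun y h1 h2 => by
      rw [← MulAction.orbit_eq_iff] at h1 h2
      rw [← h1, h2] at hb; omega
    have h : ({a} ∪ MulAction.orbit S b ∪ MulAction.orbit S c : Set Ω) = Set.univ := by
      refine Set.eq_of_subset_of_ncard_le (Set.subset_univ _) ?_
      rw [Set.ncard_univ, Nat.card_eq_fintype_card, hΩ, Set.ncard_union_eq (d2.union_left d3),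
        Set.ncard_union_eq d1, Set.ncard_singleton, hb, hc]
    intro y
    have := Set.eq_univ_iff_forall.mp h y
    simpa [or_assoc] using this
  have hba : b ≠ a := fun e => by
    subst e
    have : MulAction.orbit S b = {b} := by
      ext y; exact ⟨fun ⟨g, hg⟩ => hg ▸ g.2, fun h => by rw [Set.mem_singleton_iff.mp h]; exact MulAction.mem_orbit_self _⟩
    rw [this, Set.ncard_singleton] at hb; omega
  -- self-pairing
  have hself : (b, a) ∈ MulAction.orbit G (a, b) := by
    obtain ⟨g, hg⟩ := MulAction.exists_smul_eq G b a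
    have hmem : (a, g • a) ∈ MulAction.orbit G (b, a) := ⟨g, Prod.ext hg rfl⟩
    have h1 := pair_orbit_card (G := G) a (g • a)
    rw [MulAction.orbit_eq_iff.mpr hmem, swap_orbit_card, pair_orbit_card, Nat.card_coe_set_eq,
      Nat.card_coe_set_eq, hb, hΩ] at h1
    rcases horbit (g • a) with h | h | h
    · exfalso
      rw [h] at h1
      have : MulAction.orbit S a = {a} := by
        ext y; exact ⟨fun ⟨g, hg⟩ => hg ▸ g.2, fun h => by rw [Set.mem_singleton_iff.mp h]; exact MulAction.mem_orbit_self _⟩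
      rw [this, Set.ncard_singleton] at h1; omega
    · obtain ⟨s, hs⟩ := h
      refine ⟨g⁻¹ * (s : G), ?_⟩
      show ((g⁻¹ * (s : G)) • a, (g⁻¹ * (s : G)) • b) = (b, a)
      rw [mul_smul, mul_smul, show (s : G) • a = a from s.2, show (s : G) • b = g • a from hs, ← hg,
        inv_smul_smul, inv_smul_smul]
    · exfalso
      rw [MulAction.orbit_eq_iff.mpr h, hc] at h1; omega
  let Γ : SimpleGraph Ω :=
    { Adj := fun x y => ∃ g : G, g • a = x ∧ g • b = y
      symm := ⟨fun x y ⟨g, hx, hy⟩ => by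
        obtain ⟨s, hs⟩ := hself
        have hs' : s • a = b ∧ s • b = a := ⟨congrArg Prod.fst hs, congrArg Prod.snd hs⟩
        exact ⟨g * s, by rw [mul_smul, hs'.1, hy], by rw [mul_smul, hs'.2, hx]⟩⟩
      loopless := ⟨fun x ⟨g, hx, hy⟩ => hba (MulAction.injective g (hy.trans hx.symm))⟩ }
  have hmap : ∀ (g : G) (x y : Ω), Γ.Adj x y → Γ.Adj (g • x) (g • y) := fun g x y ⟨h, hx, hy⟩ =>
    ⟨g * h, by rw [mul_smul, hx], by rw [mul_smul, hy]⟩
  have hiff : ∀ (g : G) (x y : Ω), Γ.Adj (g • x) (g • y) ↔ Γ.Adj x y := fun g x y =>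
    ⟨fun h => by simpa using hmap g⁻¹ _ _ h, hmap g x y⟩
  have hNa : ∀ y, Γ.Adj a y ↔ y ∈ MulAction.orbit S b := fun y =>
    ⟨fun ⟨g, hx, hy⟩ => ⟨⟨g, hx⟩, hy⟩, fun ⟨g, hg⟩ => ⟨g.1, g.2, hg⟩⟩
  have hdeg : ∀ x, (Finset.univ.filter (Γ.Adj x)).card = 22 := by
    intro x
    obtain ⟨g, rfl⟩ := MulAction.exists_smul_eq G a x
    rw [← Set.ncard_coe_finset, ← hb]
    have : (↑(Finset.univ.filter (Γ.Adj (g • a))) : Set Ω) = (g • ·) '' MulAction.orbit S b := by
      ext y
      simp only [Finset.coe_filter, Finset.mem_univ, true_and, Set.mem_ofPred_eq, Set.mem_image, ← hNa]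
      exact ⟨fun h => ⟨g⁻¹ • y, (hiff g _ _).mp (by rwa [smul_inv_smul]), smul_inv_smul g y⟩,
        fun ⟨z, hz, e⟩ => e ▸ hmap g _ _ hz⟩
    rw [this, Set.ncard_image_of_injective _ (MulAction.injective g)]
  let cm : Ω → Ω → ℕ := fun x y => (Finset.univ.filter fun z => Γ.Adj x z ∧ Γ.Adj y z).card
  have hcm : ∀ (g : G) (x y : Ω), cm (g • x) (g • y) = cm x y := by
    intro g x y
    refine Finset.card_nbij' (fun z => g⁻¹ • z) (fun z => g • z) ?_ ?_ ?_ ?_
    · intro z hz
      simp only [Finset.coe_filter, Finset.mem_univ, true_and, Set.mem_ofPred_eq] at hz ⊢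
      exact ⟨by simpa using hmap g⁻¹ _ _ hz.1, by simpa using hmap g⁻¹ _ _ hz.2⟩
    · intro z hz
      simp only [Finset.coe_filter, Finset.mem_univ, true_and, Set.mem_ofPred_eq] at hz ⊢
      exact ⟨hmap g _ _ hz.1, hmap g _ _ hz.2⟩
    · exact fun z _ => smul_inv_smul g z
    · exact fun z _ => inv_smul_smul g z
  set l := cm a b with hl
  set m := cm a c with hm
  have hadj : ∀ x y, Γ.Adj x y → cm x y = l := fun x y ⟨g, hx, hy⟩ => by rw [← hx, ← hy, hcm]
  have hnadj : ∀ x y, x ≠ y → ¬ Γ.Adj x y → cm x y = m := by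
    intro x y hne hna
    obtain ⟨g, rfl⟩ := MulAction.exists_smul_eq G a x
    rw [← smul_inv_smul g y, hcm]
    rcases horbit (g⁻¹ • y) with h | h | h
    · exact absurd (by rw [← h, smul_inv_smul]) hne
    · exact absurd (by rw [← smul_inv_smul g y]; exact hmap g _ _ ((hNa _).mpr h)) hna
    · obtain ⟨s, hs⟩ := h
      rw [← hs]
      have := hcm s.1 a c
      rwa [show (s.1 : G) • a = a from s.2] at this
  -- double counting
  have hcount : 22 * 22 = 22 + 22 * l + 77 * m := by
    have h0 : ∑ z ∈ Finset.univ.filter (Γ.Adj a), (Finset.univ.filter (Γ.Adj z)).card = ∑ y, cm a y := by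
      simp only [cm, Finset.card_filter, ite_and]
      rw [Finset.sum_comm]
      refine Finset.sum_congr rfl fun y _ => ?_
      rw [Finset.sum_filter]
      refine Finset.sum_congr rfl fun z _ => ?_
      simp [Γ.adj_comm y z]
    rw [Finset.sum_congr rfl (fun z _ => hdeg z), Finset.sum_const, hdeg a, smul_eq_mul] at h0
    have e1 : ∀ y, cm a y = (if y = a then 22 else 0) + (if Γ.Adj a y then l else 0) +
        (if y ≠ a ∧ ¬ Γ.Adj a y then m else 0) := by
      intro y
      by_cases h1 : y = a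
      · subst h1
        simp [cm, hdeg]
      · by_cases h2 : Γ.Adj a y
        · simp [h1, h2, hadj a y h2]
        · simp [h1, h2, hnadj a y (Ne.symm h1) h2]
    have hfar : (Finset.univ.filter fun y => y ≠ a ∧ ¬ Γ.Adj a y).card = 77 := by
      have : (Finset.univ.filter fun y => y ≠ a ∧ ¬ Γ.Adj a y) = Finset.univ \ insert a (Finset.univ.filter (Γ.Adj a)) := by
        ext y; simp
      rw [this, Finset.card_univ_sdiff, hΩ, Finset.card_insert_of_notMem (by simp), hdeg]
    rw [Finset.sum_congr rfl fun y _ => e1 y, Finset.sum_add_distrib, Finset.sum_add_distrib, Finset.sum_ite_eq',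
      ← Finset.sum_filter, ← Finset.sum_filter, Finset.sum_const, Finset.sum_const, hdeg, hfar] at h0
    simpa using h0
  -- parameters
  let A : Matrix Ω Ω ℚ := Matrix.of fun x y => if Γ.Adj x y then 1 else 0
  have hAr : ∀ i, ∑ j, A i j = 22 := fun i => by
    show (∑ j, if Γ.Adj i j then (1 : ℚ) else 0) = 22
    rw [← Finset.sum_filter, Finset.sum_const, nsmul_eq_mul, mul_one]
    exact_mod_cast hdeg i
  have hAc : ∀ j, ∑ i, A i j = 22 := fun j => by
    rw [← hAr j]; exact Finset.sum_congr rfl fun i _ => by simp [A, Γ.adj_comm i j]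
  have hAd : ∀ i, A i i = 0 := fun i => by simp [A]
  have hA2 : A * A = ((22 : ℚ) - m) • (1 : Matrix Ω Ω ℚ) + ((l : ℚ) - m) • A + (m : ℚ) • jMat := by
    ext x y
    have : (A * A) x y = (cm x y : ℚ) := by
      rw [Matrix.mul_apply, show (cm x y : ℚ) = ∑ z, if Γ.Adj x z ∧ Γ.Adj y z then (1 : ℚ) else 0 by
        rw [Finset.sum_boole]]
      refine Finset.sum_congr rfl fun z _ => ?_
      simp only [A, Matrix.of_apply, Γ.adj_comm z y]
      split_ifs <;> simp_all
    rw [this]
    by_cases h1 : x = y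
    · subst h1
      simp [cm, hdeg, A, jMat]
    · by_cases h2 : Γ.Adj x y
      · simp [h1, h2, hadj x y h2, A, jMat]
      · simp [h1, h2, hnadj x y h1 h2, A, jMat]
  have hlm : l = 0 ∧ m = 6 := by
    have hcases : (l = 0 ∧ m = 6) ∨ (l = 7 ∧ m = 4) ∨ (l = 14 ∧ m = 2) ∨ (l = 21 ∧ m = 0) := by omega
    rcases hcases with h | ⟨h1, h2⟩ | ⟨h1, h2⟩ | ⟨h1, h2⟩
    · exact h
    · exfalso
      rw [h1, h2] at hA2; norm_num at hA2
      exact excl_seven hΩ hAd hAr hAc hA2
    · exfalso
      rw [h1, h2] at hA2; norm_num at hA2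
      let Z : Matrix Ω Ω ℤ := Matrix.of fun x y => (if Γ.Adj x y then 1 else 0) - if x = y then 6 else 0
      refine excl_fourteen hΩ Z ?_
      have hZ : Z.map (Int.cast : ℤ → ℚ) = A - (6 : ℚ) • 1 := by
        ext x y
        simp only [Z, Matrix.map_apply, Matrix.sub_apply, Matrix.smul_apply, Matrix.one_apply, A, Matrix.of_apply]
        split_ifs <;> norm_num
      rw [hZ]
      simp only [Matrix.sub_mul, Matrix.mul_sub, Matrix.smul_mul, Matrix.mul_smul, Matrix.one_mul,
        Matrix.mul_one, hA2]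
      module
    · exfalso
      rw [h1, h2] at hA2; norm_num at hA2
      exact excl_twenty_one hΩ hAd hA2
  have hsrg : Γ.IsSRGWith 100 22 0 6 := by
    refine ⟨hΩ, fun x => ?_, fun x y h => ?_, fun x y hne h => ?_⟩
    · rw [← SimpleGraph.card_neighborFinset_eq_degree, SimpleGraph.neighborFinset_eq_filter, hdeg]
    · rw [← hlm.1, ← hadj x y h, ← Set.toFinset_card]
      congr 1; ext z; simp [SimpleGraph.mem_commonNeighbors]
    · rw [← hlm.2, ← hnadj x y hne h, ← Set.toFinset_card]
      congr 1; ext z; simp [SimpleGraph.mem_commonNeighbors]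
  obtain ⟨α, B, hα, hB, ⟨φ⟩⟩ := CfsgSRGUnique.exists_model hsrg
  obtain ⟨ψ⟩ := nonempty_hs_iso hα hB
  let θ : Γ ≃g hsGraph := φ.symm.trans ψ
  -- the automorphism group of the graph on 100 vectors
  have hAut : Nat.card (hsGraph ≃g hsGraph) = 88704000 := by
    rw [← s1586 hα hB]
    exact Nat.card_congr
      { toFun := fun g => (ψ.trans g).trans ψ.symm
        invFun := fun g => (ψ.symm.trans g).trans ψ
        left_inv := fun g => RelIso.ext fun x => by simp
        right_inv := fun g => RelIso.ext fun x => by simp }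
  haveI : Finite (hsGraph ≃g hsGraph) := Nat.finite_of_card_ne_zero (by rw [hAut]; norm_num)
  let act : G →* (hsGraph ≃g hsGraph) :=
    { toFun := fun g => θ.symm.trans ((⟨(g : Equiv.Perm Ω), fun {x y} => hiff g x y⟩ : Γ ≃g Γ).trans θ)
      map_one' := RelIso.ext fun x => θ.apply_symm_apply x
      map_mul' := fun g h => RelIso.ext fun x => by
        show θ ((g : Equiv.Perm Ω) ((h : Equiv.Perm Ω) (θ.symm x))) =
          θ ((g : Equiv.Perm Ω) (θ.symm (θ ((h : Equiv.Perm Ω) (θ.symm x)))))
        rw [RelIso.symm_apply_apply] }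
  have hact : Function.Injective act := by
    intro g h e
    refine Subtype.ext (Equiv.ext fun x => θ.injective ?_)
    have := congrArg (fun k : hsGraph ≃g hsGraph => k (θ x)) e
    simpa [act] using this
  have hGcard : Nat.card G = 44352000 := by
    rw [← (MulAction.stabilizer G a).card_mul_index, MulAction.index_stabilizer_of_transitive,
      Nat.card_eq_fintype_card (α := Ω), hΩ, Nat.card_congr e.toEquiv, CfsgGolay.card_sporM22]
  set R := act.range
  set H := hsHom.range
  have hRc : Nat.card ↥R = 44352000 := by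
    rw [← Nat.card_congr (MonoidHom.ofInjective hact).toEquiv, hGcard]
  have hHc : Nat.card ↥H = 44352000 := by
    rw [← Nat.card_congr (MonoidHom.ofInjective hsHom_injective).toEquiv, card_hs]
  haveI : IsSimpleGroup ↥H :=
    (MonoidHom.ofInjective hsHom_injective).symm.isSimpleGroup_congr.mpr hs_simple
  have hidx : R.index = 2 := by
    have := R.card_mul_index
    rw [hRc, hAut] at this; omega
  haveI : R.Normal := Subgroup.normal_of_index_eq_two hidx
  have hle : H ≤ R := by
    rcases (inferInstance : (R.subgroupOf H).Normal).eq_bot_or_eq_top with h | h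
    · exfalso
      have h1 := Subgroup.card_mul_index (R.subgroupOf H)
      rw [h, Subgroup.card_bot, Subgroup.index_bot, hHc] at h1
      have h2 : (R.subgroupOf H).index ≤ 2 :=
        hidx ▸ Nat.le_of_dvd (by rw [hidx]; norm_num) (Subgroup.relIndex_dvd_index_of_normal R H)
      rw [h, Subgroup.index_bot, hHc] at h2
      omega
    · exact Subgroup.subgroupOf_eq_top.mp h
  have hRH : R = H := (Subgroup.eq_of_le_of_card_ge hle (by rw [hRc, hHc])).symm
  obtain ⟨k⟩ := iso_hsStab
  exact ⟨(((MonoidHom.ofInjective hact).trans (MulEquiv.subgroupCongr hRH)).trans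
    (MonoidHom.ofInjective hsHom_injective).symm).trans k.symm⟩

end CfsgHSRecog
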